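import Groth.Agent.S3030
import Groth.Agent.S7982
import Groth.Agent.S0114
import Groth.Agent.WeilResLib.Transporter
import Groth.Agent.AntiAffLib.Image
import Groth.Agent.AntiAffLib.Descend
import Groth.Agent.AlgSpLib.ReducedSmooth
import Groth.Agent.AlbLib.AVClass

/-!
# Largest normal subgroups with a property stable under extensions and quotients
-/

set_option autoImplicit false
set_option backward.isDefEq.respectTransparency false
set_option maxHeartbeats 800000

noncomputable section

universe u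

open CategoryTheory CategoryTheory.Limits MonoidalCategory CartesianMonoidalCategory AlgebraicGeometry
open scoped MonObj

attribute [-instance] CategoryTheory.Hom.commGroup

namespace Groth.Agent.NormSub

variable {k : Type u} [Field k]

/-- Quotient groups of smooth groups are smooth. -/
theorem smooth_of_quot {E Q : Over (Spec (CommRingCat.of k))} [GrpObj Q] [LocallyOfFiniteType Q.hom]
    (q : E ⟶ Q) [Flat q.left] [Surjective q.left] [Smooth E.hom] : Smooth Q.hom := by
  haveI : GeometricallyReduced E.hom := AbSchLib.geometricallyReduced_of_smooth E.hom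
  haveI : GeometricallyReduced Q.hom := by
    refine ⟨fun K _ z Z a b h => ?_⟩
    let m := pullback.fst a q.left
    haveI : Flat m := MorphismProperty.pullback_fst _ _ ‹Flat q.left›
    haveI : Surjective m := MorphismProperty.pullback_fst (P := @Surjective) _ _ ‹Surjective q.left›
    have h' : IsPullback (pullback.snd a q.left) (m ≫ b) E.hom z := by
      rw [← Over.w q]
      exact (IsPullback.of_hasPullback a q.left).flip.paste_vert h
    haveI : IsReduced (pullback a q.left) := GeometricallyReduced.geometrically_isReduced _ _ _ h'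
    exact AlgSpLib.isReduced_of_flat_surjective m
  exact AlbLib.smooth_grp Q

variable {G Q H'' : Over (Spec (CommRingCat.of k))} [GrpObj G] [GrpObj Q] [GrpObj H'']
  [LocallyOfFiniteType G.hom] [QuasiCompact G.hom] [LocallyOfFiniteType Q.hom] [QuasiCompact Q.hom]

/-- The inverse image of a normal closed subgroup of a quotient is an extension of it by the kernel. -/
theorem exists_preimage {H : Over (Spec (CommRingCat.of k))} [GrpObj H] (j : H ⟶ G) [IsMonHom j]
    [IsClosedImmersion j.left] (q : G ⟶ Q) [IsMonHom q] [Flat q.left] [Surjective q.left] (hq : AlgGrp.IsKernel j q)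
    (j'' : H'' ⟶ Q) [IsMonHom j''] [IsClosedImmersion j''.left] (hn : AlgGrp.IsNormalHom j'') :
    ∃ (M : Over (Spec (CommRingCat.of k))) (_ : GrpObj M) (jM : M ⟶ G) (r : M ⟶ H'') (l : H ⟶ M),
      IsMonHom jM ∧ IsClosedImmersion jM.left ∧ AlgGrp.IsNormalHom jM ∧ IsMonHom r ∧ Flat r.left ∧
      Surjective r.left ∧ IsMonHom l ∧ l ≫ jM = j ∧ r ≫ j'' = jM ≫ q ∧ AlgGrp.IsKernel l r := by
  haveI : Mono j'' := Over.mono_of_mono_left j''
  haveI : Mono j := Over.mono_of_mono_left j
  let M := pullback j'' q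
  let jM : M ⟶ G := pullback.snd j'' q
  let r : M ⟶ H'' := pullback.fst j'' q
  have sq : IsPullback r.left jM.left j''.left q.left := (IsPullback.of_hasPullback j'' q).map (Over.forget _)
  haveI : IsClosedImmersion jM.left := MorphismProperty.of_isPullback sq ‹IsClosedImmersion j''.left›
  haveI : Flat r.left := MorphismProperty.of_isPullback sq.flip ‹Flat q.left›
  haveI : Surjective r.left := MorphismProperty.of_isPullback (P := @Surjective) sq.flip ‹Surjective q.left›
  haveI : Mono jM := Over.mono_of_mono_left jM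
  have hw : r ≫ j'' = jM ≫ q := pullback.condition
  have hmem : ∀ {T : Over (Spec (CommRingCat.of k))} (g : T ⟶ G), (∃ z, z ≫ jM = g) ↔ ∃ h, h ≫ j'' = g ≫ q := by
    intro T g
    constructor
    · rintro ⟨z, rfl⟩
      exact ⟨z ≫ r, by rw [Category.assoc, hw, Category.assoc]⟩
    · rintro ⟨h, hh⟩
      exact ⟨pullback.lift h g hh, pullback.lift_snd _ _ _⟩
  obtain ⟨hM, hjM⟩ := WeilRes.exists_grpObj_of_pred jM (fun {T} (g : T ⟶ G) => ∃ h, h ≫ j'' = g ≫ q) hmem
    ⟨1, by rw [MonObj.one_comp, MonObj.one_comp]⟩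
    (fun a b ⟨x, hx⟩ ⟨y, hy⟩ => ⟨x * y, by rw [MonObj.mul_comp, MonObj.mul_comp, hx, hy]⟩)
    (fun a ⟨x, hx⟩ => ⟨x⁻¹, by rw [GrpObj.inv_comp, GrpObj.inv_comp, hx]⟩)
  letI := hM
  haveI := hjM
  haveI : IsMonHom (r ≫ j'') := by rw [hw]; infer_instance
  haveI : IsMonHom r := DiagRep.isMonHom_of_comp_mono r j''
  obtain ⟨l, hl⟩ := (hmem j).2 ⟨1, by rw [AntiAffLib.kernel_comp hq, MonObj.one_comp]⟩
  haveI : IsMonHom (l ≫ jM) := by rw [hl]; infer_instance
  haveI : IsMonHom l := DiagRep.isMonHom_of_comp_mono l jM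
  have hlr : l ≫ r = 1 := by
    rw [← cancel_mono j'', Category.assoc, hw, ← Category.assoc, hl, AntiAffLib.kernel_comp hq, MonObj.one_comp]
  refine ⟨M, hM, jM, r, l, hjM, inferInstance, fun T g n => ?_, inferInstance, inferInstance, inferInstance,
    inferInstance, hl, hw, ?_⟩
  · obtain ⟨n'', hn''⟩ := hn T (g ≫ q) (n ≫ r)
    obtain ⟨z, hz⟩ := (hmem (g * (n ≫ jM) * g⁻¹)).2 ⟨n'', by
      rw [← hn'', MonObj.mul_comp, MonObj.mul_comp, GrpObj.inv_comp, Category.assoc n r j'', hw, Category.assoc]⟩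
    exact ⟨z, hz.symm⟩
  · have hex : ∀ s : PullbackCone r η[H''], ∃ z : s.pt ⟶ H, z ≫ j = s.fst ≫ jM := fun s =>
      AntiAffLib.exists_lift_kernel hq (s.fst ≫ jM) (by
        rw [Category.assoc, ← hw, ← Category.assoc, s.condition, toUnit_unique s.snd (toUnit _), ← Hom.one_def,
          MonObj.one_comp])
    refine IsPullback.of_isLimit' ⟨by rw [hlr, Hom.one_def]⟩ (PullbackCone.IsLimit.mk _ (fun s => (hex s).choose)
      (fun s => ?_) (fun s => toUnit_unique _ _) (fun s m h1 _ => ?_))
    · rw [← cancel_mono jM, Category.assoc, hl]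
      exact (hex s).choose_spec
    · rw [← cancel_mono j]
      refine Eq.trans ?_ (hex s).choose_spec.symm
      rw [← h1, Category.assoc, hl]

omit [LocallyOfFiniteType Q.hom] [QuasiCompact Q.hom] in
/-- The image of a normal subgroup in a quotient is normal. -/
theorem exists_normal_image {H' : Over (Spec (CommRingCat.of k))} [GrpObj H'] (j' : H' ⟶ G) [IsMonHom j']
    [IsClosedImmersion j'.left] (hn' : AlgGrp.IsNormalHom j') (q : G ⟶ Q) [IsMonHom q] [Flat q.left]
    [Surjective q.left] [LocallyOfFiniteType Q.hom] :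
    ∃ (C : Over (Spec (CommRingCat.of k))) (_ : GrpObj C) (p : H' ⟶ C) (c : C ⟶ Q), IsMonHom p ∧ IsMonHom c ∧
      p ≫ c = j' ≫ q ∧ Flat p.left ∧ Surjective p.left ∧ IsClosedImmersion c.left ∧ AlgGrp.IsNormalHom c := by
  haveI : LocallyOfFiniteType H'.hom := by rw [← Over.w j']; infer_instance
  haveI : QuasiCompact H'.hom := by rw [← Over.w j']; infer_instance
  haveI : Flat H'.hom := Groth.Agent.GrpField.flat_field _
  haveI : IsSeparated Q.hom := Groth.Agent.GrpField.isSeparated_grp (G := Q)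
  let u : H' ⟶ Q := j' ≫ q
  haveI : QuasiCompact u.left := by
    haveI : QuasiCompact (u.left ≫ Q.hom) := by rw [Over.w u]; infer_instance
    exact QuasiCompact.of_comp u.left Q.hom
  obtain ⟨C, hCg, p, c, hpm, hcm, hpc, hpf, hps, hpl, hc⟩ :=
    Groth.Agent.GrpHom.exists_fppf_image u (Groth.Agent.GrpField.flat_field _)
  haveI := hpf; haveI := hps; haveI := hpl; haveI := hc
  haveI : Mono c := Over.mono_of_mono_left c
  haveI := AntiAffLib.lfp_of_lft q
  obtain ⟨f1, f2, f3⟩ := Groth.Agent.MonoQuot.fppf_tensor q p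
  haveI := f1; haveI := f2; haveI := f3
  haveI := Groth.Agent.MonoQuot.epi_over (q ⊗ₘ p)
  let z : Q ⊗ C ⟶ Q := fst _ _ * (snd _ _ ≫ c) * (fst _ _)⁻¹
  obtain ⟨n', hn''⟩ := hn' (G ⊗ H') (fst _ _) (snd _ _)
  have hz : (q ⊗ₘ p) ≫ z = (n' ≫ p) ≫ c := by
    rw [Category.assoc, hpc]
    show _ = n' ≫ j' ≫ q
    rw [← Category.assoc n', ← hn'']
    simp only [z, MonObj.comp_mul, GrpObj.comp_inv, MonObj.mul_comp, GrpObj.inv_comp, tensorHom_fst,
      tensorHom_snd_assoc, Category.assoc, hpc, u]
  obtain ⟨z', hz'⟩ := Groth.Agent.MonoQuot.exists_desc_over (q ⊗ₘ p) (n' ≫ p) fun T a b e => by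
    rw [← cancel_mono c, Category.assoc a, Category.assoc b, ← hz, reassoc_of% e]
  have hzc : z' ≫ c = z := by rw [← cancel_epi (q ⊗ₘ p), reassoc_of% hz', hz, Category.assoc]
  refine ⟨C, hCg, p, c, hpm, hcm, hpc, hpf, hps, hc, fun T g n => ⟨lift g n ≫ z', ?_⟩⟩
  rw [Category.assoc, hzc]
  simp only [z, MonObj.comp_mul, GrpObj.comp_inv, lift_fst, lift_snd_assoc]

variable (P : ∀ (E : Over (Spec (CommRingCat.of k))) [GrpObj E], Prop)

/-- The property passes to extensions. -/
def ExtClosed : Prop :=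
  ∀ (N E Q : Over (Spec (CommRingCat.of k))) [GrpObj N] [GrpObj E] [GrpObj Q]
    [LocallyOfFiniteType N.hom] [QuasiCompact N.hom] [LocallyOfFiniteType E.hom] [QuasiCompact E.hom]
    [LocallyOfFiniteType Q.hom] [QuasiCompact Q.hom]
    (i : N ⟶ E) (q : E ⟶ Q) [IsMonHom i] [IsMonHom q] [Flat q.left] [Surjective q.left],
    AlgGrp.IsKernel i q → P N → P Q → P E

/-- The property passes to quotients. -/
def QuotClosed : Prop :=
  ∀ (E Q : Over (Spec (CommRingCat.of k))) [GrpObj E] [GrpObj Q] [LocallyOfFiniteType E.hom] [QuasiCompact E.hom]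
    [LocallyOfFiniteType Q.hom] [QuasiCompact Q.hom] (q : E ⟶ Q) [IsMonHom q] [Flat q.left] [Surjective q.left],
    P E → P Q

variable {P} {H : Over (Spec (CommRingCat.of k))} [GrpObj H] (j : H ⟶ G) [IsMonHom j] [IsClosedImmersion j.left]
  (hPa : ExtClosed P) (hH : P H)
  (hmax : ∀ (M : Over (Spec (CommRingCat.of k))) [GrpObj M] (jM : M ⟶ G) [IsMonHom jM], IsClosedImmersion jM.left →
    AlgGrp.IsNormalHom jM → P M → (∃ l : H ⟶ M, l ≫ jM = j) → ∃ f : M ⟶ H, f ≫ j = jM)

include hPa hH hmax in
/-- Normal subgroups with the property in the quotient by a maximal one are trivial. -/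
theorem isIso_one_of_quot (q : G ⟶ Q) [IsMonHom q] [Flat q.left] [Surjective q.left] (hq : AlgGrp.IsKernel j q)
    (j'' : H'' ⟶ Q) [IsMonHom j''] [IsClosedImmersion j''.left] (hn : AlgGrp.IsNormalHom j'') (hP : P H'') :
    IsIso η[H''] := by
  haveI : Mono j'' := Over.mono_of_mono_left j''
  haveI : LocallyOfFiniteType H''.hom := by rw [← Over.w j'']; infer_instance
  haveI : QuasiCompact H''.hom := by rw [← Over.w j'']; infer_instance
  haveI : LocallyOfFiniteType H.hom := by rw [← Over.w j]; infer_instance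
  haveI : QuasiCompact H.hom := by rw [← Over.w j]; infer_instance
  obtain ⟨M, _, jM, r, l, hjM, hjMc, hMn, hrm, hrf, hrs, hlm, hl, hw, hk⟩ := exists_preimage j q hq j'' hn
  haveI := hjM; haveI := hjMc; haveI := hrm; haveI := hrf; haveI := hrs; haveI := hlm
  haveI : LocallyOfFiniteType M.hom := by rw [← Over.w jM]; infer_instance
  haveI : QuasiCompact M.hom := by rw [← Over.w jM]; infer_instance
  obtain ⟨f, hf⟩ := hmax M jM hjMc hMn (hPa H M H'' l r hk hH hP) ⟨l, hl⟩
  have h1 : r = 1 := by
    rw [← cancel_mono j'', hw, ← hf, Category.assoc, AntiAffLib.kernel_comp hq, MonObj.comp_one, MonObj.one_comp]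
  haveI := AntiAffLib.lfp_of_lft r
  haveI := Groth.Agent.MonoQuot.epi_over r
  have h2 : (1 : H'' ⟶ H'') = 𝟙 H'' := by
    rw [← cancel_epi r, MonObj.comp_one, Category.comp_id, h1]
  exact ⟨toUnit H'', toUnit_unique _ _, by rw [← Hom.one_def]; exact h2⟩

include hPa hH hmax in
/-- A maximal normal subgroup with the property is the largest. -/
theorem le_of_max (hPb : QuotClosed P) (hjn : AlgGrp.IsNormalHom j)
    {H' : Over (Spec (CommRingCat.of k))} [GrpObj H'] (j' : H' ⟶ G) [IsMonHom j'] [IsClosedImmersion j'.left]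
    (hn' : AlgGrp.IsNormalHom j') (hP' : P H') : ∃ f : H' ⟶ H, f ≫ j = j' := by
  haveI : Mono j := Over.mono_of_mono_left j
  haveI : Flat G.hom := Groth.Agent.GrpField.flat_field _
  haveI : LocallyOfFiniteType H.hom := by rw [← Over.w j]; infer_instance
  haveI : Flat H.hom := Groth.Agent.GrpField.flat_field _
  haveI : QuasiCompact j.left := inferInstance
  obtain ⟨Q, _, q, hqm, hqf, hqs, hql, hqk, hQsep, -, -⟩ := Groth.Agent.S3030.result k H G j hjn
  haveI := hqm; haveI := hqf; haveI := hqs; haveI := hql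
  haveI : LocallyOfFiniteType Q.hom := by
    haveI : LocallyOfFinitePresentation (q.left ≫ Q.hom) := by
      rw [Over.w q]; exact LocallyOfFinitePresentation.iff_locallyOfFiniteType.2 inferInstance
    haveI := Groth.Agent.S0114.result q.left Q.hom
    infer_instance
  haveI : QuasiCompact Q.hom := by
    haveI : CompactSpace G.left := QuasiCompact.compactSpace_of_compactSpace G.hom
    haveI : CompactSpace Q.left := q.left.surjective.compactSpace q.left.continuous
    exact quasiCompact_of_compactSpace _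
  obtain ⟨C, _, p, c, hpm, hcm, hpc, hpf, hps, hcc, hcn⟩ := exists_normal_image j' hn' q
  haveI := hpm; haveI := hcm; haveI := hpf; haveI := hps; haveI := hcc
  haveI : LocallyOfFiniteType C.hom := by rw [← Over.w c]; infer_instance
  haveI : QuasiCompact C.hom := by rw [← Over.w c]; infer_instance
  haveI : LocallyOfFiniteType H'.hom := by rw [← Over.w j']; infer_instance
  haveI : QuasiCompact H'.hom := by rw [← Over.w j']; infer_instance
  haveI := isIso_one_of_quot (H'' := C) j hPa hH hmax q hqk c hcn (hPb H' C p hP')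
  have h3 : (𝟙 C : C ⟶ C) = 1 := by
    rw [← IsIso.inv_hom_id η[C], toUnit_unique (inv η[C]) (toUnit C), Hom.one_def]
  exact AntiAffLib.exists_lift_kernel hqk j' (by
    rw [← hpc, ← Category.id_comp c, h3, MonObj.one_comp, MonObj.comp_one])

end Groth.Agent.NormSub
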